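import Groth.Agent.MiracleMod.Basic
import Groth.Agent.FlatSerre.FiniteDepth
import Groth.Agent.DepthLib.RegularLocal
import Groth.Agent.DimTrdeg.Basic

/-!
# Finite modules over regular local rings: maximal CM iff free
-/

set_option autoImplicit false

universe u

open IsLocalRing

namespace Groth.Agent.MiracleMod

theorem free_of_cohenMacaulay {A B : Type u} [CommRing A] [CommRing B] [IsRegularLocalRing A]
    [IsLocalRing B] [Algebra A B] [IsLocalHom (algebraMap A B)] [Module.Finite A B]
    (M : Type u) [AddCommGroup M] [Module B M] [Module A M] [IsScalarTower A B M] [Module.Finite B M]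
    (hCM : LocCoh.IsCohenMacaulayModule B M) (hdim : Module.supportDim B M = ringKrullDim A) :
    Module.Free A M := by
  haveI : IsNoetherianRing B := IsNoetherianRing.of_finite A B
  haveI := DepthLib.nontrivial_of_isCohenMacaulayModule hCM
  haveI : Module.Finite A M := Module.Finite.trans B M
  have h0 : Module.supportDim B (EGA4.FibMod A B M) = 0 := by
    haveI : Nontrivial (EGA4.FibMod A B M) := Submodule.Quotient.nontrivial_iff.mpr fun h =>
      DepthLib.maximalIdeal_smul_top_ne_top (R := B) (M := M) (top_le_iff.mp (h.ge.trans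
        (Submodule.smul_mono_left (map_maximalIdeal_le (algebraMap A B)))))
    refine le_antisymm ?_ ?_
    · rw [Module.supportDim_eq_ringKrullDim_quotient_annihilator]
      refine le_trans (ringKrullDim_le_of_surjective (Ideal.Quotient.factor (S := EGA4.mB A B) ?_)
        (Ideal.Quotient.factor_surjective _)) ?_
      · intro b hb
        rw [Module.mem_annihilator]
        intro z
        obtain ⟨m, rfl⟩ := Submodule.Quotient.mk_surjective _ z
        rw [← Submodule.Quotient.mk_smul, Submodule.Quotient.mk_eq_zero]
        exact Submodule.smul_mem_smul hb trivial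
      · letI : Field (A ⧸ maximalIdeal A) := Ideal.Quotient.field _
        letI : Algebra (A ⧸ maximalIdeal A) (B ⧸ EGA4.mB A B) :=
          (Ideal.quotientMap _ (algebraMap A B) Ideal.le_comap_map).toAlgebra
        haveI : IsScalarTower A (A ⧸ maximalIdeal A) (B ⧸ EGA4.mB A B) := .of_algebraMap_eq fun _ => rfl
        haveI : Module.Finite (A ⧸ maximalIdeal A) (B ⧸ EGA4.mB A B) :=
          Module.Finite.of_restrictScalars_finite A _ _
        haveI : IsArtinianRing (B ⧸ EGA4.mB A B) := IsArtinianRing.of_finite (A ⧸ maximalIdeal A) _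
        exact Ring.krullDimLE_iff.mp inferInstance
    · rw [Module.supportDim_eq_ringKrullDim_quotient_annihilator]
      haveI : Nontrivial (B ⧸ Module.annihilator B (EGA4.FibMod A B M)) :=
        Ideal.Quotient.nontrivial_iff.mpr fun h => not_subsingleton (EGA4.FibMod A B M)
          (Module.annihilator_eq_top_iff.mp h)
      exact ringKrullDim_nonneg_of_nontrivial
  haveI := flat (A := A) M hCM (by rw [h0, add_zero, hdim])
  exact Module.free_of_flat_of_isLocalRing

theorem free_of_depth_eq {R : Type u} [CommRing R] [IsRegularLocalRing R] (M : Type u) [AddCommGroup M]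
    [Module R M] [Module.Finite R M] (h : ((LocCoh.depth R M : ℕ∞) : WithBot ℕ∞) = ringKrullDim R) :
    Module.Free R M := by
  rcases subsingleton_or_nontrivial M with hM | hM
  · exact Module.Free.of_subsingleton R M
  have hle : Module.supportDim R M ≤ ringKrullDim R := by
    rw [Module.supportDim_eq_ringKrullDim_quotient_annihilator]
    exact ringKrullDim_quotient_le _
  have hge := DepthLib.depth_le_supportDim (R := R) M
  have hdim : Module.supportDim R M = ringKrullDim R := le_antisymm hle (h ▸ hge)
  exact free_of_cohenMacaulay (A := R) M (hdim.trans h.symm) hdim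

theorem free_iff_cohenMacaulay (A B : Type u) [CommRing A] [CommRing B]
    [IsRegularLocalRing A] [IsLocalRing B] [Algebra A B] [IsLocalHom (algebraMap A B)] [Module.Finite A B] :
    Module.Free A B ↔ LocCoh.IsCohenMacaulayLocalRing B ∧ Function.Injective (algebraMap A B) := by
  haveI : IsNoetherianRing B := IsNoetherianRing.of_finite A B
  constructor
  · intro hfree
    have hinj : Function.Injective (algebraMap A B) := by
      refine (injective_iff_map_eq_zero _).mpr fun a ha => ?_
      haveI := DepthLib.isDomain_of_isRegularLocalRing A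
      by_contra ha0
      exact one_ne_zero ((smul_eq_zero.mp (show a • (1 : B) = 0 by rw [Algebra.smul_def, ha, zero_mul])).resolve_left ha0)
    refine ⟨DepthLib.isCohenMacaulayLocalRing_iff.mpr ?_, hinj⟩
    haveI : Algebra.IsIntegral A B := Algebra.IsIntegral.of_finite A B
    haveI := DepthLib.isCohenMacaulayLocalRing_of_isRegularLocalRing A
    rw [DimTrdeg.ringKrullDim_eq_of_isIntegral A B hinj, DepthLib.ringKrullDim_eq_depth (R := A)]
    obtain ⟨d, hd⟩ := DepthLib.exists_nat_depth (R := A) A
    obtain ⟨rs, hlen, hrs, hrsI⟩ := DepthLib.natCast_le_depth_iff.mp hd.ge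
    rw [hd]
    refine WithBot.coe_le_coe.mpr (DepthLib.natCast_le_depth_iff.mpr ⟨rs.map (algebraMap A B), by simpa using hlen,
      RingTheory.Sequence.IsWeaklyRegular.of_flat hrs, fun r hr => ?_⟩)
    obtain ⟨a, ha, rfl⟩ := List.mem_map.mp hr
    exact map_nonunit (algebraMap A B) a (hrsI a ha)
  · rintro ⟨hcm, hinj⟩
    haveI : Algebra.IsIntegral A B := Algebra.IsIntegral.of_finite A B
    refine free_of_cohenMacaulay (A := A) B DepthLib.isCohenMacaulayModule_self ?_
    rw [Module.supportDim_self_eq_ringKrullDim, ← DimTrdeg.ringKrullDim_eq_of_isIntegral A B hinj]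

end Groth.Agent.MiracleMod
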